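import Cfsg.Agent.H6.M11.Stage11
import Cfsg.Agent.H24.M12.Pow
import Cfsg.Agent.H6.M11.Main11
import Cfsg.Agent.FooteOdd.SporMEleven
import Cfsg.Agent.H932.MtCov_m3
import Cfsg.Agent.Lib.ListFast
import Cfsg.Agent.FastGrp
import Cfsg.Agent.Prune
set_option linter.all false
prune_inst 0x7ffff9fbfbf8f9dfffff7e7ff69ccffdfbbfbfffe6dff9cbffe06dffbbff6b0acdc5fbad8feb1afe1ed7ea1410f87bd3fffffeffeb6ff87ffffdbff41ffbffdffdf7b50d519da8be1ffe6ff683f0778e7f3fffffffffffffffffffffffffffbeffbfffffffff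
open scoped Cfsg.Agent.FastGrp

-- part: H24/M12/CpTwo
section
/-!
# Representations of `M₁₁`: if elements of order 4 have trace 0 then `dim Cp ≠ 2` (helper24)
-/

set_option autoImplicit false
set_option linter.unusedSectionVars false
set_option maxRecDepth 100000

namespace Cfsg.Agent.H24.M12

open Module LinearMap Cfsg.Agent.H6.M11

variable {G : Type*} [Group G] {v : ℕ → G} {k : Type*} [Field k] {V : Type*} [AddCommGroup V] [Module k V]
  [FiniteDimensional k V] {R : G →* End k V} {ω : k}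

theorem tE_q3 (h : Sat v) (h3 : (3 : k) ≠ 0) : tE v R [3, 2, 2, 2] = tw v R [2, 2] := by
  have h1 := h.nine_tE (R := R) h3 [3, 2, 2, 2]
  simp only [List.cons_append, List.nil_append, h.t_3222, h.t_32221, h.t_322211, h.t_32220, h.t_322201, h.t_3222011,
    h.t_322200, h.t_3222001, h.t_32220011] at h1
  apply mul_left_cancel₀ (nine_ne h3)
  linear_combination h1

theorem tE_q7 (h : Sat v) (h3 : (3 : k) ≠ 0) : tE v R [3, 2, 2, 2, 2, 2, 2, 2] = tw v R [2, 2] := by
  have h1 := h.nine_tE (R := R) h3 [3, 2, 2, 2, 2, 2, 2, 2]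
  have t011 : tw v R [3, 2, 2, 2, 2, 2, 2, 2, 0, 1, 1] = tw v R [2, 2] :=
    h.tw_eq [4, 7, 0] (by decide +kernel)
  have t11 : tw v R [3, 2, 2, 2, 2, 2, 2, 2, 1, 1] = tw v R [2, 2] := h.tw_eq [4, 0] (by decide +kernel)
  have t001 : tw v R [3, 2, 2, 2, 2, 2, 2, 2, 0, 0, 1] = tw v R [2, 2] := h.tw_eq [4, 0, 1] (by decide +kernel)
  have t0011 : tw v R [3, 2, 2, 2, 2, 2, 2, 2, 0, 0, 1, 1] = tw v R [2, 2] := h.tw_eq [4, 1] (by decide +kernel)
  simp only [List.cons_append, List.nil_append, h.t_32222222, h.t_322222221, h.t_322222220, h.t_3222222201,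
    h.t_3222222200, t011, t11, t001, t0011] at h1
  apply mul_left_cancel₀ (nine_ne h3)
  linear_combination h1

theorem cp_ne_two (h : Sat v) (hω : IsPrimitiveRoot ω 3) (h2 : (2 : k) ≠ 0) (ht : tw v R [2, 2] = 0) :
    finrank k (Cp v R) ≠ 2 := by
  intro hf
  have h3 : (3 : k) ≠ 0 := three_ne hω
  have hP := h.isProj_pP (R := R) hω h2
  have hz : op v R [2, 2, 2, 2] * pP v R = pP v R := by
    ext u
    have e1 := (Submodule.mem_inf.1 (hP.map_mem u)).2
    rwa [End.mem_eigenspace_iff, one_smul] at e1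
  have c22 := h.comm_pP (R := R) h3 [2, 2] (by decide)
  have c32 := h.comm_pP (R := R) h3 [3, 2] (by decide)
  have s22 : op v R [2, 2] * (op v R [2, 2] * pP v R) = pP v R := by
    rw [← mul_assoc, ← op_append]
    exact hz
  obtain ⟨d1, d2⟩ := two_dims h2 hP c22 s22
  have d2' : LinearMap.trace k V (op v R [2, 2] * pP v R) = 0 := by
    rw [trace_pP, show ([2, 2] : List ℕ) ++ [2, 2, 2, 2] = [2, 2, 2, 2, 2, 2] from rfl, h.tE_yy h3, h.tE_y6 h3, ht,
      add_zero, mul_zero]
  rw [d2', eq_comm, sub_eq_zero] at d2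
  have d3 := _root_.Cfsg.Agent.H6.M11.cast_eq h2 h3 d2 (by omega) (by omega)
  have d4 : finrank k (Cp v R ⊓ End.eigenspace (op v R [2, 2]) 1 : Submodule k V) = 1 := by omega
  have hP1 := isProj_plus h2 hP c22 s22
  have hq3 : op v R [3, 2] * (op v R [2, 2] * pP v R) = op v R [3, 2, 2, 2] * pP v R := by
    rw [← mul_assoc, ← op_append]
    rfl
  have c1 : op v R [3, 2] * (op v R [2, 2] * pP v R) = op v R [2, 2] * pP v R * op v R [3, 2] := by
    rw [hq3, show op v R [3, 2, 2, 2] = op v R [2, 2, 2, 2, 2, 2, 3, 2] from h.op_eq (by decide +kernel),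
      show ([2, 2, 2, 2, 2, 2, 3, 2] : List ℕ) = [2, 2] ++ ([2, 2, 2, 2] ++ [3, 2]) from rfl, op_append, op_append,
      mul_assoc, mul_assoc, c32, ← mul_assoc (op v R [2, 2, 2, 2]), hz, mul_assoc]
  have c2 : op v R [3, 2] * ((2 : k)⁻¹ • (pP v R + op v R [2, 2] * pP v R)) =
      ((2 : k)⁻¹ • (pP v R + op v R [2, 2] * pP v R)) * op v R [3, 2] := by
    rw [mul_smul_comm, smul_mul_assoc, mul_add, add_mul, c1, c32]
  have s2 : op v R [3, 2] * (op v R [3, 2] * ((2 : k)⁻¹ • (pP v R + op v R [2, 2] * pP v R))) =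
      (2 : k)⁻¹ • (pP v R + op v R [2, 2] * pP v R) := by
    rw [← mul_assoc, ← op_append, show ([3, 2] : List ℕ) ++ [3, 2] = [3, 2, 3, 2] from rfl,
      show op v R [3, 2, 3, 2] = op v R [2, 2, 2, 2] from h.op_eq (by decide +kernel), mul_smul_comm, mul_add, hz,
      ← mul_assoc, ← op_append, show ([2, 2, 2, 2] : List ℕ) ++ [2, 2] = [2, 2] ++ [2, 2, 2, 2] from rfl, op_append,
      mul_assoc, hz]
  obtain ⟨e1, e2⟩ := two_dims h2 hP1 c2 s2
  have e3 : LinearMap.trace k V (op v R [3, 2] * ((2 : k)⁻¹ • (pP v R + op v R [2, 2] * pP v R))) = 0 := by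
    rw [mul_smul_comm, mul_add, hq3, map_smul, map_add, trace_pP, trace_pP,
      show ([3, 2] : List ℕ) ++ [2, 2, 2, 2] = [3, 2, 2, 2, 2, 2] from rfl,
      show ([3, 2, 2, 2] : List ℕ) ++ [2, 2, 2, 2] = [3, 2, 2, 2, 2, 2, 2, 2] from rfl, h.tE_q h3, h.tE_q5 h3,
      tE_q3 h h3, tE_q7 h h3, ht, add_zero, mul_zero, add_zero, smul_zero]
  rw [e3, eq_comm, sub_eq_zero] at e2
  rw [d4] at e1
  have e4 := _root_.Cfsg.Agent.H6.M11.cast_eq h2 h3 e2 (by omega) (by omega)
  omega

end Cfsg.Agent.H24.M12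
end

-- part: H24/M12/Letters
section
/-!
# The letters of `M₁₁` in `2.M₁₂` (helper24)

`vG i` : the element of `Γ = 2.M₁₂` over the letter `i` of helper6 fixing the signed point `pos 0`; `Sat vG`.
-/

set_option autoImplicit false
set_option maxRecDepth 100000

namespace Cfsg.Agent.H24.M12

open Cfsg.Agent.H932.Mt
open Cfsg.Agent.H6.M11 (Sat relL)

/-- words of the letters -/
def LW : ℕ → List ℕ
  | 0 => [1, 2, 1, 2, 2, 2, 1, 0, 1, 0, 1, 0, 0, 0, 0, 1, 0, 0]
  | 1 => [0, 0, 0, 1, 2, 2, 2, 1, 2, 1, 2, 1, 2, 1, 2, 1]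
  | 2 => [0, 1, 0, 1, 0, 1, 0, 0, 1, 0, 0, 0, 0, 0, 1, 2, 1]
  | 3 => [1, 0, 1, 2, 1, 2, 1, 2, 2, 1, 0, 0, 1, 0]
  | 4 => [0, 0, 1, 0, 0, 0, 1, 2, 1, 0, 0, 1, 0, 0, 0, 0, 1, 0, 0, 0, 0]
  | 5 => [1, 0, 0, 0, 1, 0, 0, 0, 0, 0, 0, 1, 0, 0, 0, 0, 0, 1]
  | 6 => [2, 2, 1, 0, 1, 2, 2, 2, 2, 2, 1, 2, 2, 1, 2, 2, 2]
  | 7 => [1, 2, 1, 0, 0, 0, 0, 1, 0, 0, 1, 0, 0, 0, 0]
  | 8 => [1, 0, 0, 1, 2, 1, 2, 2, 2, 1, 0, 0, 0, 1, 0, 1, 0, 1, 0]
  | _ => []

/-- tables of the letters -/
def LT : ℕ → ℕ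
  | 0 => 0x2158d9c94b7b92810e95bd8c78c020
  | 1 => 0x846f69ca957b8a4634c710d4b4a020
  | 2 => 0x2912873e119caf66b16aa544339820
  | 3 => 0xad2f673e3094ca45a8c7425ac18820
  | 4 => 0xbdab473e72844a431d6a4244363420
  | 5 => 0x290436b25331ed74a230ad1cf52c20
  | 6 => 0x8c1cfb5d2818a95634e694ca452c20
  | 7 => 0x398439c9287b94b63630bd8a4a5420
  | 8 => 0x3990973c6294dac5aa95bd8a48c020
  | _ => 0xbdab49ca307b9ac5a928398a418820

theorem LT_ok : ∀ i : Fin 10, ∀ k : Fin 24, aw (LW i.1) k.1 = app (LT i.1) k.1 := by decide +kernel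

theorem LT_lt : ∀ i : Fin 10, ∀ k : Fin 24, app (LT i.1) k.1 < 24 := by decide +kernel

/-- the letters -/
def vG (i : ℕ) : Γ := el (LW i)

theorem ev_vG (w : List ℕ) : Cfsg.Agent.H6.M11.ev vG w = el (w.flatMap LW) := by
  induction w with
  | nil => rfl
  | cons i w ih => rw [Cfsg.Agent.H6.M11.ev_cons, ih, List.flatMap_cons, el_append]; rfl

theorem aw_append (u w : List ℕ) (k : ℕ) : aw (u ++ w) k = aw u (aw w k) := by
  induction u with
  | nil => rfl
  | cons i u ih => rw [List.cons_append, aw, aw, ih]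

/-- image of a point under a word in the letters -/
def al : List ℕ → ℕ → ℕ
  | [], k => k
  | i :: w, k => app (LT i) (al w k)

theorem LT_ge {i : ℕ} (h : 9 ≤ i) : LT i = LT 9 ∧ LW i = LW 9 := by
  obtain ⟨k, rfl⟩ := Nat.exists_eq_add_of_le h
  rw [Nat.add_comm]
  exact ⟨rfl, rfl⟩

theorem LT_all (i : ℕ) {k : ℕ} (hk : k < 24) : aw (LW i) k = app (LT i) k ∧ app (LT i) k < 24 := by
  rcases Nat.lt_or_ge i 9 with hi | hi
  · exact ⟨LT_ok ⟨i, by omega⟩ ⟨k, hk⟩, LT_lt ⟨i, by omega⟩ ⟨k, hk⟩⟩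
  · rw [(LT_ge hi).1, (LT_ge hi).2]
    exact ⟨LT_ok 9 ⟨k, hk⟩, LT_lt 9 ⟨k, hk⟩⟩

theorem al_spec (w : List ℕ) {k : ℕ} (hk : k < 24) : aw (w.flatMap LW) k = al w k ∧ al w k < 24 := by
  induction w with
  | nil => exact ⟨rfl, hk⟩
  | cons i w ih =>
    rw [List.flatMap_cons, aw_append, ih.1]
    exact LT_all i ih.2

/-- test for the equality of two words in the letters -/
def eql (u w : List ℕ) : Bool := allB (fun i => Nat.beq (al u (2 * i)) (al w (2 * i))) 12

theorem ev_eq {u w : List ℕ} (h : eql u w = true) : Cfsg.Agent.H6.M11.ev vG u = Cfsg.Agent.H6.M11.ev vG w := by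
  rw [ev_vG, ev_vG]
  apply ext_pos
  intro i
  apply Fin.ext
  have hi : (pos i).val < 24 := (pos i).2
  rw [el_val, el_val, (al_spec u hi).1, (al_spec w hi).1]
  exact Nat.eq_of_beq_eq_true (allB_spec h i.1 i.2)

private noncomputable def _root_.Cfsg.Agent.LsF.fdcbe22_2 : {f // @Cfsg.Agent.H24.M12.allB = f} := ⟨_, by first | (delta Cfsg.Agent.H24.M12.allB Nat.brecOn.go Nat.brecOn Cfsg.Agent.H24.M12.allB._f; rewrite [Cfsg.Agent.LsF.and_eq]; (try delta Cfsg.Agent.H24.M12.allB.match_1); (try delta Nat.casesOn); first | dsimp -zeta only | exact rfl) | exact rfl⟩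
private noncomputable def _root_.Cfsg.Agent.LsF.fdcbe22_3 : {f // @Cfsg.Agent.H24.M12.app = f} := ⟨_, by first | (delta Cfsg.Agent.H24.M12.app; rewrite [Cfsg.Agent.LsF.nmul_pat, Cfsg.Agent.LsF.nmod_pat, Cfsg.Agent.LsF.nshr_pat]; exact rfl) | exact rfl⟩
private noncomputable def _root_.Cfsg.Agent.LsF.fdcbe22_4 : {f // @Cfsg.Agent.H24.M12.LT = f} := ⟨_, by first | (delta Cfsg.Agent.H24.M12.LT; (try delta Cfsg.Agent.H24.M12.LW.match_1); (try rewrite [Cfsg.Agent.LsF.instDecEq_eq, Cfsg.Agent.LsF.dite_eq]); exact rfl) | exact rfl⟩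
private noncomputable def _root_.Cfsg.Agent.LsF.fdcbe22_5 : {f // @Cfsg.Agent.H24.M12.al = f} := ⟨_, by first | (delta Cfsg.Agent.H24.M12.al List.brecOn List.brecOn.go Cfsg.Agent.H24.M12.al._f; rewrite [Cfsg.Agent.LsF.fdcbe22_3.2, Cfsg.Agent.LsF.fdcbe22_4.2]; (try delta Cfsg.Agent.H24.M12.al.match_1); (try delta List.casesOn); first | dsimp -zeta only | exact rfl) | exact rfl⟩
private noncomputable def _root_.Cfsg.Agent.LsF.fdcbe22_6 : {f // @Cfsg.Agent.H24.M12.eql = f} := ⟨_, by first | (delta Cfsg.Agent.H24.M12.eql; rewrite [Cfsg.Agent.LsF.fdcbe22_2.2, Cfsg.Agent.LsF.fdcbe22_5.2, Cfsg.Agent.LsF.nmul_pat]; exact rfl) | exact rfl⟩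
/-- **the relations of `M₁₁`** -/
theorem sat_G : Sat vG := by
  have h : (relL.all fun r => eql r.1 r.2) = true := by ((try (rewrite [Cfsg.Agent.LsF.fdcbe22_6.2, Cfsg.Agent.LsF.all_eq])); decide +kernel)
  intro r hr
  exact ev_eq (List.all_eq_true.1 h r hr)

theorem vG_zero_ne : vG 0 ≠ 1 := by
  intro h
  have h1 := el_val (LW 0) 2
  change ((vG 0).1.1 2).val = _ at h1
  rw [h] at h1
  revert h1
  decide +kernel

end Cfsg.Agent.H24.M12
end

-- part: H24/M12/Twenty
section
/-!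
# Representations of degree 10 of `2.M₁₂`: the elements of order 20 have trace 0 (helper24)

`V` faithful of degree 10, characteristic not 2, 3.  The subgroup `E` of order 9 has a fixed vector `v` which is an
eigenvector of an element of order 4; `g` of order 20 permutes ten lines, `v, g v, …, g⁹ v` is a basis.
-/

set_option autoImplicit false
set_option linter.unusedSectionVars false
set_option maxRecDepth 100000

namespace Cfsg.Agent.H24.M12

open Module LinearMap Cfsg.Agent.H6.M11 Cfsg.Agent.H932.Mt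

variable {k : Type*} [Field k] {V : Type*} [AddCommGroup V] [Module k V]
  [FiniteDimensional k V] {R : Γ →* End k V} {ω : k}

/-- an element of order 20 -/
def W20 : List ℕ := [1, 0, 0, 0, 0, 0, 1, 0, 0, 0, 1]

/-- conjugates the element of order 4 to its negative -/
def WN : List ℕ := [1, 0, 1, 0, 1, 0, 0, 0, 1, 2, 2, 2, 2, 2, 2, 1, 0, 1]

/-- the exponents -/
def TW : ℕ → ℕ × ℕ × ℕ × ℕ
  | 1 => (2, 1, 1, 0)
  | 2 => (1, 0, 2, 2)
  | 3 => (2, 2, 0, 0)
  | 4 => (2, 0, 2, 0)
  | 5 => (1, 1, 1, 2)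
  | 6 => (0, 2, 0, 1)
  | 7 => (0, 0, 2, 1)
  | 8 => (1, 2, 0, 2)
  | _ => (0, 1, 1, 1)

/-- `e₁^a e₂^b y^(2 j)` in the letters -/
def bw (a b j : ℕ) : List ℕ := List.replicate a 0 ++ (List.replicate b 1 ++ List.replicate j 2)

private noncomputable def _root_.Cfsg.Agent.LsF.fdcbe22_7 : {f // @Cfsg.Agent.H24.M12.gt4 = f} := ⟨_, by first | (delta Cfsg.Agent.H24.M12.gt4; (try delta Cfsg.Agent.H24.M12.gt4.match_1); (try rewrite [Cfsg.Agent.LsF.instDecEq_eq, Cfsg.Agent.LsF.dite_eq]); exact rfl) | exact rfl⟩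
private noncomputable def _root_.Cfsg.Agent.LsF.fdcbe22_8 : {f // @Cfsg.Agent.H24.M12.aw = f} := ⟨_, by first | (delta Cfsg.Agent.H24.M12.aw List.brecOn List.brecOn.go Cfsg.Agent.H24.M12.aw._f; rewrite [Cfsg.Agent.LsF.fdcbe22_3.2, Cfsg.Agent.LsF.fdcbe22_7.2]; (try delta Cfsg.Agent.H24.M12.aw.match_1); (try delta List.casesOn); first | dsimp -zeta only | exact rfl) | exact rfl⟩
private noncomputable def _root_.Cfsg.Agent.LsF.fdcbe22_9 : {f // @Cfsg.Agent.H24.M12.eqw = f} := ⟨_, by first | (delta Cfsg.Agent.H24.M12.eqw; rewrite [Cfsg.Agent.LsF.fdcbe22_2.2, Cfsg.Agent.LsF.fdcbe22_8.2, Cfsg.Agent.LsF.nmul_pat]; exact rfl) | exact rfl⟩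
private noncomputable def _root_.Cfsg.Agent.LsF.fdcbe22_10 : {f // @Cfsg.Agent.H24.M12.rpt = f} := ⟨_, by first | (delta Cfsg.Agent.H24.M12.rpt Nat.brecOn.go Nat.brecOn Cfsg.Agent.H24.M12.rpt._f; rewrite [Cfsg.Agent.LsF.lappend_pat]; (try delta Cfsg.Agent.H24.M12.rpt.match_1); (try delta Nat.casesOn); first | dsimp -zeta only | exact rfl) | exact rfl⟩
private noncomputable def _root_.Cfsg.Agent.LsF.fdcbe22_11 : {f // @Cfsg.Agent.H24.M12.LW = f} := ⟨_, by first | (delta Cfsg.Agent.H24.M12.LW; (try delta Cfsg.Agent.H24.M12.LW.match_1); (try rewrite [Cfsg.Agent.LsF.instDecEq_eq, Cfsg.Agent.LsF.dite_eq]); exact rfl) | exact rfl⟩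
private noncomputable def _root_.Cfsg.Agent.LsF.fdcbe22_12 : {f // @Cfsg.Agent.H24.M12.bw = f} := ⟨_, by first | (delta Cfsg.Agent.H24.M12.bw; rewrite [Cfsg.Agent.LsF.lappend_pat, Cfsg.Agent.LsF.replicate_eq]; exact rfl) | exact rfl⟩
private noncomputable def _root_.Cfsg.Agent.LsF.fdcbe22_13 : {f // @Cfsg.Agent.H24.M12.TW = f} := ⟨_, by first | (delta Cfsg.Agent.H24.M12.TW; (try delta Cfsg.Agent.H24.M12.TW.match_1); (try rewrite [Cfsg.Agent.LsF.instDecEq_eq, Cfsg.Agent.LsF.dite_eq]); exact rfl) | exact rfl⟩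
theorem tw_ok : ∀ m : Fin 9, eqw (rpt (m.1 + 1) W20 ++ (bw (TW (m.1 + 1)).1 (TW (m.1 + 1)).2.1 2).flatMap LW)
    ((bw (TW (m.1 + 1)).2.2.1 (TW (m.1 + 1)).2.2.2 6).flatMap LW ++ rpt (m.1 + 1) W20) = true := by
  (refine of_decide_eq_true ?_; (try (rewrite [Cfsg.Agent.LsF.fdcbe22_9.2, Cfsg.Agent.LsF.fdcbe22_10.2, Cfsg.Agent.LsF.fdcbe22_11.2, Cfsg.Agent.LsF.fdcbe22_12.2, Cfsg.Agent.LsF.fdcbe22_13.2, Cfsg.Agent.LsF.nadd_pat, Cfsg.Agent.LsF.lappend_pat, Cfsg.Agent.LsF.flatMap_eq, Cfsg.Agent.LsF.dBoolEq_eq, Cfsg.Agent.LsF.dForallFin_eq, Cfsg.Agent.LsF.decide_eq])); decide +kernel)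

theorem tw_rel (m : ℕ) (h1 : 1 ≤ m) (h9 : m ≤ 9) : el W20 ^ m * _root_.Cfsg.Agent.H6.M11.ev vG (bw (TW m).1 (TW m).2.1 2) =
    ev vG (bw (TW m).2.2.1 (TW m).2.2.2 6) * el W20 ^ m := by
  obtain ⟨n, rfl⟩ := Nat.exists_eq_add_of_le' h1
  have h := el_eq (tw_ok ⟨n, by omega⟩)
  dsimp only at h
  rwa [el_append, el_append, el_rpt, ← ev_vG, ← ev_vG] at h

theorem w20_ten : el W20 ^ 10 = neg := by
  have h5 : eqw (rpt 10 W20) nw = true := by decide +kernel
  have h6 := el_eq h5
  rwa [el_rpt, el_nw] at h6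

theorem tr_conj_eq {a b c : Γ} (h : c * a = b * c) : LinearMap.trace k V (R a) = LinearMap.trace k V (R b) := by
  have h1 : a = c⁻¹ * (b * c) := by rw [← h, inv_mul_cancel_left]
  rw [h1, map_mul, LinearMap.trace_mul_comm, ← map_mul, mul_assoc, mul_inv_cancel, mul_one]

theorem tr_neg (hneg : R neg = -1) (a : Γ) : LinearMap.trace k V (R (neg * a)) = -LinearMap.trace k V (R a) := by
  rw [map_mul, hneg, neg_mul, one_mul, map_neg]

/-- elements of order 4 have trace 0 -/
theorem tr_four (h2 : (2 : k) ≠ 0) (hneg : R neg = -1) : tw vG R [2, 2] = 0 := by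
  have h1 : eqw (WN ++ ([2, 2] : List ℕ).flatMap LW) (nw ++ (([2, 2] : List ℕ).flatMap LW ++ WN)) = true := by
    decide +kernel
  have h3 := el_eq h1
  rw [el_append, el_append, el_append, el_nw, ← ev_vG, ← mul_assoc] at h3
  have h4 := tr_conj_eq (R := R) h3
  rw [tr_neg hneg] at h4
  have h5 : (2 : k) * tw vG R [2, 2] = 0 := by
    have h6 : tw vG R [2, 2] = -tw vG R [2, 2] := h4
    linear_combination h6
  exact (mul_eq_zero.1 h5).resolve_left h2

/-- a common eigenvector -/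
theorem exists_vec (hω : IsPrimitiveRoot ω 3) (h2 : (2 : k) ≠ 0) {i : k} (hi : i * i = -1) (hneg : R neg = -1)
    (hE : op vG R [0] ≠ 1) (hn : finrank k V = 10) : ∃ (v : V) (c : k), v ≠ 0 ∧ c * c = -1 ∧ v ∈ Wt vG R 1 1 ∧
      op vG R [2, 2] v = c • v := by
  have h3 : (3 : k) ≠ 0 := three_ne hω
  have hsat := sat_G
  obtain ⟨f, a, α, β, ε, hε, hεs, hV, hCp, hCm, -⟩ := hsat.basic (R := R) hω h2 hE (by omega)
  have hcp := cp_ne_two hsat hω h2 (tr_four h2 hneg)
  have hCm2 : finrank k (Cm vG R) = 2 := by omega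
  have hne : Cm vG R ≠ ⊥ := by
    intro h
    rw [h, finrank_bot] at hCm2
    omega
  obtain ⟨w, hw, hw0⟩ := (Submodule.ne_bot_iff _).1 hne
  obtain ⟨hw1, hw2⟩ := Submodule.mem_inf.1 hw
  rw [End.mem_eigenspace_iff, neg_smul, one_smul] at hw2
  have hyy : op vG R [2, 2] (op vG R [2, 2] w) = -w := by
    rw [← Module.End.mul_apply, ← op_append]
    exact hw2
  have hmem : op vG R [2, 2] w ∈ Wt vG R 1 1 :=
    mem_of_comm (hsat.isProj_pE (R := R) hω) (hsat.comm_word h3 [2, 2] (by decide)) hw1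
  by_cases h0 : op vG R [2, 2] w + i • w = 0
  · refine ⟨w, -i, hw0, by linear_combination hi, hw1, ?_⟩
    rw [neg_smul]
    exact eq_neg_of_add_eq_zero_left h0
  · refine ⟨_, i, h0, hi, Submodule.add_mem _ hmem (Submodule.smul_mem _ _ hw1), ?_⟩
    rw [map_add, map_smul, hyy, smul_add, smul_smul, hi, neg_smul, one_smul, add_comm]

/-- **the elements of order 20 have trace 0** -/
theorem tr_twenty (hω : IsPrimitiveRoot ω 3) (h2 : (2 : k) ≠ 0) {i : k} (hi : i * i = -1) (hneg : R neg = -1)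
    (hE : op vG R [0] ≠ 1) (hn : finrank k V = 10) : LinearMap.trace k V (R (el W20)) = 0 := by
  have h3 : (3 : k) ≠ 0 := three_ne hω
  have hsat := sat_G
  obtain ⟨v, c, hv0, hc, hv, hvc⟩ := exists_vec hω h2 hi hneg hE hn
  simp only [mem_Wt, one_smul] at hv
  obtain ⟨hv1, hv2⟩ := hv
  have hc0 : c ≠ 0 := by
    rintro rfl
    rw [mul_zero] at hc
    exact one_ne_zero (neg_eq_zero.1 hc.symm)
  have h4 : ((4 : ℕ) : k) ≠ 0 := four_ne h2
  have hc4 : c ^ 4 = 1 := by linear_combination (c * c - 1) * hc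
  -- the projection
  let Y : End k V := op vG R [2, 2]
  have hY4 : Y ^ 4 = 1 := hsat.pow_four
  let Q : End k V := sp 4 c Y 1 * pE vG R
  have hpE := hsat.isProj_pE (R := R) hω
  have hQv : Q v = v := by
    change sp 4 c Y 1 (pE vG R v) = v
    rw [hpE.map_id v (by simp only [mem_Wt, one_smul]; exact ⟨hv1, hv2⟩)]
    refine (isProj_sp h4 hc0 hc4 hY4 1).map_id v ?_
    rw [End.mem_eigenspace_iff, pow_one]
    exact hvc
  have hQ0 : ∀ x, Q (op vG R [0] x) = Q x := by
    intro x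
    change sp 4 c Y 1 (pE vG R (op vG R [0] x)) = sp 4 c Y 1 (pE vG R x)
    rw [← Module.End.mul_apply (pE vG R), hsat.pE_zero]
  have hQ1 : ∀ x, Q (op vG R [1] x) = Q x := by
    intro x
    change sp 4 c Y 1 (pE vG R (op vG R [1] x)) = sp 4 c Y 1 (pE vG R x)
    rw [← Module.End.mul_apply (pE vG R), hsat.pE_one]
  have hQY : ∀ x, Q (Y x) = c • Q x := by
    intro x
    have e1 : Q * Y = c • Q := by
      change sp 4 c Y 1 * pE vG R * Y = c • (sp 4 c Y 1 * pE vG R)
      have e2 : pE vG R * Y = Y * pE vG R := (hsat.comm_word h3 [2, 2] (by decide)).symm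
      have e3 : Commute Y (sp 4 c Y 1) := by
        unfold sp
        exact comm_av ((Commute.refl Y).smul_right _)
      rw [mul_assoc, e2, ← mul_assoc, ← e3.eq, mul_sp hc0 hc4 hY4, pow_one, smul_mul_assoc]
    rw [← Module.End.mul_apply, e1, LinearMap.smul_apply]
  clear_value Q
  -- words
  have hE0 : ∀ (n : ℕ) (x : V), Q (op vG R (List.replicate n 0) x) = Q x := by
    intro n
    induction n with
    | zero => intro x; rw [List.replicate_zero, op_nil]; rfl
    | succ n ih => intro x; rw [List.replicate_succ, op_cons, Module.End.mul_apply, hQ0, ih]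
  have hE1 : ∀ (n : ℕ) (x : V), Q (op vG R (List.replicate n 1) x) = Q x := by
    intro n
    induction n with
    | zero => intro x; rw [List.replicate_zero, op_nil]; rfl
    | succ n ih => intro x; rw [List.replicate_succ, op_cons, Module.End.mul_apply, hQ1, ih]
  have hV0 : ∀ n : ℕ, op vG R (List.replicate n 0) v = v := by
    intro n
    induction n with
    | zero => rw [List.replicate_zero, op_nil]; rfl
    | succ n ih => rw [List.replicate_succ, op_cons, Module.End.mul_apply, ih, hv1]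
  have hV1 : ∀ n : ℕ, op vG R (List.replicate n 1) v = v := by
    intro n
    induction n with
    | zero => rw [List.replicate_zero, op_nil]; rfl
    | succ n ih => rw [List.replicate_succ, op_cons, Module.End.mul_apply, ih, hv2]
  have hb2 : ∀ a b : ℕ, op vG R (bw a b 2) v = c • v := by
    intro a b
    unfold bw
    rw [op_append, op_append, Module.End.mul_apply, Module.End.mul_apply]
    change op vG R (List.replicate a 0) (op vG R (List.replicate b 1) (op vG R [2, 2] v)) = c • v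
    rw [hvc, map_smul, map_smul, hV1, hV0]
  have hb6 : ∀ (a b : ℕ) (x : V), Q (op vG R (bw a b 6) x) = -c • Q x := by
    intro a b x
    unfold bw
    rw [op_append, op_append, Module.End.mul_apply, Module.End.mul_apply, hE0, hE1]
    have e6 : (List.replicate 6 2 : List ℕ) = [2, 2] ++ ([2, 2] ++ [2, 2]) := rfl
    rw [e6, op_append, op_append, Module.End.mul_apply, Module.End.mul_apply]
    change Q (Y (Y (Y x))) = _
    rw [hQY, hQY, hQY, smul_smul, smul_smul]
    congr 1
    linear_combination c * hc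
  -- the key: `Q` kills `g^m v`
  let T : End k V := R (el W20)
  have hTm : ∀ m : ℕ, R (el W20 ^ m) = T ^ m := fun m => map_pow R _ m
  have hT10 : T ^ 10 = -1 := by rw [← hTm, w20_ten, hneg]
  have hkill : ∀ m : ℕ, 1 ≤ m → m ≤ 9 → Q ((T ^ m) v) = 0 := by
    intro m hm1 hm9
    have e1 := congrArg R (tw_rel m hm1 hm9)
    rw [map_mul, map_mul, hTm] at e1
    have e2 := congrArg (fun A : End k V => Q (A v)) e1
    simp only [Module.End.mul_apply] at e2
    change Q ((T ^ m) (op vG R (bw _ _ 2) v)) = Q (op vG R (bw _ _ 6) ((T ^ m) v)) at e2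
    rw [hb2, map_smul, map_smul, hb6] at e2
    have e3 : (2 * c) • Q ((T ^ m) v) = 0 := by
      rw [two_mul, add_smul]
      nth_rewrite 1 [e2]
      rw [neg_smul, neg_add_cancel]
    exact (smul_eq_zero.1 e3).resolve_left (mul_ne_zero h2 hc0)
  -- linear independence
  have hli : LinearIndependent k (fun m : Fin 10 => (T ^ (m : ℕ)) v) := by
    rw [Fintype.linearIndependent_iff]
    intro g hg l
    -- apply `Q ∘ T ^ (10 - l)`
    have e1 := congrArg (fun x => Q ((T ^ (10 - (l : ℕ))) x)) hg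
    simp only [map_sum, map_smul, map_zero] at e1
    have e2 : ∀ m : Fin 10, m ≠ l → Q ((T ^ (10 - (l : ℕ))) ((T ^ (m : ℕ)) v)) = 0 := by
      intro m hml
      rw [← Module.End.mul_apply (T ^ (10 - (l : ℕ))), ← pow_add]
      have hm := m.2
      have hl := l.2
      have hne : (m : ℕ) ≠ l := fun h => hml (Fin.ext h)
      rcases Nat.lt_or_ge (m : ℕ) l with hlt | hge
      · exact hkill _ (by omega) (by omega)
      · have e3 : 10 - (l : ℕ) + m = 10 + ((m : ℕ) - l) := by omega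
        rw [e3, pow_add, hT10, neg_mul, one_mul, LinearMap.neg_apply, map_neg, hkill _ (by omega) (by omega),
          neg_zero]
    rw [Finset.sum_eq_single l (fun m _ hml => by rw [e2 m hml, smul_zero]) (fun h => absurd (Finset.mem_univ l) h)] at e1
    have e4 : (T ^ (10 - (l : ℕ))) ((T ^ (l : ℕ)) v) = -v := by
      rw [← Module.End.mul_apply, ← pow_add, Nat.sub_add_cancel l.2.le, hT10]
      rfl
    rw [e4, map_neg, hQv, smul_neg, neg_eq_zero] at e1
    exact (smul_eq_zero.1 e1).resolve_right hv0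
  let b : Module.Basis (Fin 10) k V := basisOfLinearIndependentOfCardEqFinrank hli (by rw [Fintype.card_fin, hn])
  have hb : ∀ m : Fin 10, b m = (T ^ (m : ℕ)) v := fun m => by
    rw [coe_basisOfLinearIndependentOfCardEqFinrank]
  rw [LinearMap.trace_eq_matrix_trace k b, Matrix.trace]
  refine Finset.sum_eq_zero fun m _ => ?_
  rw [Matrix.diag_apply, LinearMap.toMatrix_apply]
  have e5 : T (b m) = (T ^ ((m : ℕ) + 1)) v := by rw [hb, pow_succ', Module.End.mul_apply]
  change b.repr (T (b m)) m = 0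
  rw [e5]
  rcases Nat.lt_or_ge ((m : ℕ) + 1) 10 with hlt | hge
  · have e6 : (T ^ ((m : ℕ) + 1)) v = b ⟨(m : ℕ) + 1, hlt⟩ := by rw [hb]
    rw [e6, Module.Basis.repr_self, Finsupp.single_eq_of_ne]
    intro h
    have := congrArg Fin.val h
    simp at this
  · have e7 : (m : ℕ) + 1 = 10 := by omega
    have e8 : (T ^ 10) v = -b 0 := by
      rw [hT10, hb]
      simp
    rw [e7, e8, map_neg, Module.Basis.repr_self, Finsupp.neg_apply, Finsupp.single_eq_of_ne, neg_zero]
    intro h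
    have := congrArg Fin.val h
    simp at this
    omega

end Cfsg.Agent.H24.M12
end

-- part: H24/M12/Stab
section
/-!
# The stabilizer of a signed point in `2.M₁₂` is `M₁₁` (helper24)
-/

set_option autoImplicit false
set_option maxRecDepth 100000
open scoped Pointwise

namespace Cfsg.Agent.H24.M12

open Cfsg Cfsg.Agent.H932.Mt
open Cfsg.Agent.H6.M11 (Sat vH v11 closure_11 W)
open Cfsg.Agent.CoThreeStd.MTwelve (act act_spec dec_enc enc_lt wd)
open Cfsg.Agent.SporadicStructure.M11InvPerms (enc dec)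

/-- the stabilizer of the first signed point -/
def H0 : Subgroup Γ where
  carrier := {g | g.1.1 (pos 0) = pos 0}
  one_mem' := rfl
  mul_mem' := by
    intro a b ha hb
    change a.1.1 (b.1.1 (pos 0)) = pos 0
    rw [show b.1.1 (pos 0) = pos 0 from hb]
    exact ha
  inv_mem' := by
    intro a ha
    change (a.1.1)⁻¹ (pos 0) = pos 0
    rw [Equiv.Perm.inv_eq_iff_eq]
    exact (show a.1.1 (pos 0) = pos 0 from ha).symm

theorem mem_H0 {g : Γ} : g ∈ H0 ↔ g.1.1 (pos 0) = pos 0 := Iff.rfl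

theorem LT_zero : ∀ i : Fin 10, app (LT i.1) 0 = 0 := by decide +kernel

theorem vG_mem (i : ℕ) : vG i ∈ H0 := by
  rw [mem_H0]
  apply Fin.ext
  have h1 := el_val (LW i) (pos 0)
  have h2 := (LT_all i (k := 0) (by norm_num)).1
  change ((vG i).1.1 (pos 0)).val = 0
  rw [show ((vG i).1.1 (pos 0)).val = _ from h1]
  change aw (LW i) 0 = 0
  rw [h2]
  rcases Nat.lt_or_ge i 9 with hi | hi
  · exact LT_zero ⟨i, by omega⟩
  · rw [(LT_ge hi).1]
    exact LT_zero 9

/-- the letters in the stabilizer -/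
def v0 (i : ℕ) : H0 := ⟨vG i, vG_mem i⟩

theorem sat_0 : Sat v0 :=
  Cfsg.Agent.H6.M11.Sat.of_injective (f := H0.subtype) H0.subtype_injective sat_G

theorem neg_notMem : neg ∉ H0 := by
  rw [mem_H0, Cfsg.Agent.H932.Mt.neg_apply]
  decide +kernel

theorem rowp_zero : rowp 0 = some 0 := by decide +kernel

/-- the map to `M₁₁` -/
def j11 : H0 →* Spor.M11 where
  toFun g := ⟨(sig (g : Γ) : Equiv.Perm GolayPt), Subgroup.mem_inf.2 ⟨(sig (g : Γ)).2, by
    rw [MulAction.mem_stabilizer_iff]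
    change (sig (g : Γ) : Equiv.Perm GolayPt) (some 0) = some 0
    rw [← rowp_zero, sig_rowp]
    congr 1
    change idx ((g : Γ).1.1 (pos 0)) = 0
    rw [mem_H0.1 g.2, idx_pos]⟩⟩
  map_one' := rfl
  map_mul' _ _ := rfl

theorem eq_of_sig_eq {a b : Γ} (ha : a ∈ H0) (hb : b ∈ H0) (h : sig a = sig b) : a = b := by
  have h1 : sig (a * b⁻¹) = 1 := by rw [map_mul, map_inv, h, mul_inv_cancel]
  rcases eq_of_sig h1 with h2 | h2
  · exact mul_inv_eq_one.1 h2
  · exfalso
    apply neg_notMem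
    rw [← h2]
    exact H0.mul_mem ha (H0.inv_mem hb)

theorem j11_coe (g : H0) : ((j11 g : Spor.M11) : Equiv.Perm GolayPt) = (sig (g : Γ) : Equiv.Perm GolayPt) := rfl

theorem j11_injective : Function.Injective j11 := by
  intro a b h
  apply Subtype.ext
  apply eq_of_sig_eq a.2 b.2
  apply Subtype.ext
  rw [← j11_coe, ← j11_coe, h]

theorem j11_surjective : Function.Surjective j11 := by
  rintro ⟨m, hm⟩
  obtain ⟨h1, h2⟩ := Subgroup.mem_inf.1 hm
  obtain ⟨g, hg⟩ := sig_surjective ⟨m, h1⟩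
  have h3 : _root_.Cfsg.Agent.H932.Mt.lp g 0 = 0 := by
    apply rowp_inj
    rw [← sig_rowp, hg, rowp_zero]
    exact h2
  have h4 : g.1.1 (pos 0) = pos 0 ∨ g.1.1 (pos 0) = ng (pos 0) := by
    have h5 := eq_pos_or (g.1.1 (pos 0))
    rwa [show idx (g.1.1 (pos 0)) = 0 from h3] at h5
  rcases h4 with h4 | h4
  · refine ⟨⟨g, h4⟩, Subtype.ext ?_⟩
    rw [j11_coe]
    exact congrArg (fun z : Spor.M12 => (z : Equiv.Perm GolayPt)) hg
  · refine ⟨⟨neg * g, ?_⟩, Subtype.ext ?_⟩
    · rw [mem_H0]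
      change neg.1.1 (g.1.1 (pos 0)) = pos 0
      rw [h4, Cfsg.Agent.H932.Mt.neg_apply, ng_ng]
    · change (sig (neg * g) : Equiv.Perm GolayPt) = m
      rw [map_mul, sig_neg, one_mul, hg]

/-- the stabilizer is the Mathieu group of degree 11 -/
noncomputable def e11 : H0 ≃* Spor.M11 := MulEquiv.ofBijective j11 ⟨j11_injective, j11_surjective⟩

theorem simple_H0 : IsSimpleGroup H0 :=
  have := Cfsg.Agent.FooteOdd.SporMEleven.simple
  MulEquiv.isSimpleGroup e11

theorem sig_of_rows {g : Γ} {m : Spor.M12} (h : ∀ j : Fin 5, (m : Equiv.Perm GolayPt) (rowp ⟨j.1, by omega⟩) =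
    rowp (_root_.Cfsg.Agent.H932.Mt.lp g ⟨j.1, by omega⟩)) : sig g = m := by
  have ha : Function.Injective (fun i : Fin 5 => (⟨i.1, by omega⟩ : Fin 12)) := fun i j hij =>
    Fin.ext (by have h5 := congrArg (fun z : Fin 12 => z.val) hij; exact h5)
  obtain ⟨n, -, hu⟩ := Cfsg.Agent.SporadicStructure.DodecadM12.exists_unique_dodecad_map _ _ sd_mem sd_mem
    (fun i : Fin 5 => rowp ⟨i.1, by omega⟩) (fun i => rowp (_root_.Cfsg.Agent.H932.Mt.lp g ⟨i.1, by omega⟩))
    (fun i j h => ha (rowp_inj _ _ h))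
    (fun i j h => ha ((_root_.Cfsg.Agent.H932.Mt.lp g).injective (rowp_inj _ _ h)))
    (fun i => rowp_mem _) (fun i => rowp_mem _)
  have e1 := hu (sig g) ⟨(sig g).2.1, (sig g).2.2, fun i => sig_rowp g _⟩
  have e2 := hu m ⟨m.2.1, m.2.2, h⟩
  exact Subtype.ext (e1.trans e2.symm)

theorem row5 : ∀ j : Fin 12, dec (_root_.Cfsg.Agent.CoThreeStd.MTwelve.act (W 5) (enc (rowp j))) = rowp (_root_.Cfsg.Agent.H932.Mt.lp (vG 5) j) := by decide +kernel

theorem row8 : ∀ j : Fin 12, dec (_root_.Cfsg.Agent.CoThreeStd.MTwelve.act (W 8) (enc (rowp j))) = rowp (_root_.Cfsg.Agent.H932.Mt.lp (vG 8) j) := by decide +kernel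

theorem vH_apply (i : ℕ) (z : GolayPt) : (vH i : Equiv.Perm GolayPt) z = dec (_root_.Cfsg.Agent.CoThreeStd.MTwelve.act (W i) (enc z)) := by
  have h1 := (act_spec (W i) (enc z) (enc_lt z)).1
  rw [dec_enc] at h1
  rw [← h1, dec_enc]
  rfl

theorem sig_five : sig (vG 5) = vH 5 := sig_of_rows fun j => by rw [vH_apply, row5]

theorem sig_eight : sig (vG 8) = vH 8 := sig_of_rows fun j => by rw [vH_apply, row8]

/-- `x` and `t` generate the stabilizer -/
theorem closure_0 : Subgroup.closure ({v0 5, v0 8} : Set H0) = ⊤ := by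
  have h1 : (Subgroup.closure ({v0 5, v0 8} : Set H0)).map j11 = ⊤ := by
    rw [MonoidHom.map_closure, Set.image_pair,
      show j11 (v0 5) = v11 5 from Subtype.ext (congrArg (fun z : Spor.M12 => (z : Equiv.Perm GolayPt)) sig_five),
      show j11 (v0 8) = v11 8 from Subtype.ext (congrArg (fun z : Spor.M12 => (z : Equiv.Perm GolayPt)) sig_eight), closure_11]
  rw [eq_top_iff]
  intro g _
  have h2 : j11 g ∈ (Subgroup.closure ({v0 5, v0 8} : Set H0)).map j11 := by rw [h1]; trivial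
  obtain ⟨a, ha, hag⟩ := h2
  rwa [← j11_injective hag]

/-- a homomorphism from the stabilizer killing `x` is trivial -/
theorem trivial_of_five {M : Type*} [Monoid M] (f : H0 →* M) (h : f (v0 5) = 1) (g : H0) : f g = 1 := by
  have hs := simple_H0
  have hk : ∃ N : Subgroup H0, N.Normal ∧ v0 5 ∈ N ∧ ∀ g ∈ N, f g = 1 := by
    refine ⟨{ carrier := {g | f g = 1}, one_mem' := map_one f, mul_mem' := ?_, inv_mem' := ?_ }, ⟨?_⟩, h, fun g hg => hg⟩
    · intro a b ha hb
      change f (a * b) = 1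
      rw [map_mul, show f a = 1 from ha, show f b = 1 from hb, one_mul]
    · intro a ha
      change f a⁻¹ = 1
      have h1 : f (a⁻¹ * a) = 1 := by rw [inv_mul_cancel, map_one]
      rwa [map_mul, show f a = 1 from ha, mul_one] at h1
    · intro a ha b
      change f (b * a * b⁻¹) = 1
      rw [map_mul, map_mul, show f a = 1 from ha, mul_one, ← map_mul, mul_inv_cancel, map_one]
  obtain ⟨N, hN, h5, hf⟩ := hk
  rcases hs.eq_bot_or_eq_top_of_normal N hN with h1 | h1
  · exfalso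
    rw [h1, Subgroup.mem_bot] at h5
    have h6 := congrArg Subtype.val h5
    change vG 5 = 1 at h6
    have h7 := el_val (LW 5) 2
    change ((vG 5).1.1 2).val = _ at h7
    rw [h6] at h7
    revert h7
    decide +kernel
  · exact hf g (by rw [h1]; trivial)

end Cfsg.Agent.H24.M12
end

-- part: H24/M12/Eight
section
/-!
# Representations of `2.M₁₂` in characteristic 3: degree at least 5 and not 8 (helper24)
-/

set_option autoImplicit false
set_option linter.unusedSectionVars false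
set_option maxRecDepth 100000

namespace Cfsg.Agent.H24.M12

open Module LinearMap Cfsg.Agent.H6.M11 Cfsg.Agent.H932.Mt

variable {k : Type*} [Field k] {V : Type*} [AddCommGroup V] [Module k V] [FiniteDimensional k V] {ζ ξ : k}

/-! ### cosets of the stabilizer -/

theorem rows_x : ∀ j : Fin 12, j ≠ 0 → ∃ i : Fin 11, _root_.Cfsg.Agent.H932.Mt.lp (el (rpt i.1 (LW 5)) * Cfsg.Agent.H932.Mt.rep 1) 0 = j := by
  decide +kernel

theorem mem_or_of_row {g : Γ} (h : _root_.Cfsg.Agent.H932.Mt.lp g 0 = 0) : g ∈ H0 ∨ neg * g ∈ H0 := by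
  have h4 : g.1.1 (pos 0) = pos 0 ∨ g.1.1 (pos 0) = ng (pos 0) := by
    have h5 := eq_pos_or (g.1.1 (pos 0))
    rwa [show idx (g.1.1 (pos 0)) = 0 from h] at h5
  rcases h4 with h4 | h4
  · exact Or.inl h4
  · right
    rw [mem_H0]
    change neg.1.1 (g.1.1 (pos 0)) = pos 0
    rw [h4, Cfsg.Agent.H932.Mt.neg_apply, ng_ng]

theorem coset (g : Γ) : (g ∈ H0 ∨ neg * g ∈ H0) ∨ ∃ i : ℕ, ∃ h ∈ H0, g = vG 5 ^ i * Cfsg.Agent.H932.Mt.rep 1 * h ∨
    g = neg * (vG 5 ^ i * Cfsg.Agent.H932.Mt.rep 1 * h) := by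
  by_cases h0 : _root_.Cfsg.Agent.H932.Mt.lp g 0 = 0
  · exact Or.inl (mem_or_of_row h0)
  · right
    obtain ⟨i, hi⟩ := rows_x _ h0
    rw [el_rpt] at hi
    change _root_.Cfsg.Agent.H932.Mt.lp (vG 5 ^ i.1 * Cfsg.Agent.H932.Mt.rep 1) 0 = _root_.Cfsg.Agent.H932.Mt.lp g 0 at hi
    have h1 : _root_.Cfsg.Agent.H932.Mt.lp ((vG 5 ^ i.1 * Cfsg.Agent.H932.Mt.rep 1)⁻¹ * g) 0 = 0 := by
      rw [lp_mul, ← hi, ← lp_mul, inv_mul_cancel]
      change idx (pos 0) = 0
      rw [idx_pos]
    rcases mem_or_of_row h1 with h2 | h2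
    · exact ⟨i, _, h2, Or.inl (by rw [mul_inv_cancel_left])⟩
    · refine ⟨i, _, h2, Or.inr ?_⟩
      have hnn := neg_mul_neg'
      have hc := neg_comm (vG 5 ^ i.1 * Cfsg.Agent.H932.Mt.rep 1)
      calc g = neg * neg * g := by rw [hnn, one_mul]
        _ = neg * (neg * ((vG 5 ^ i.1 * Cfsg.Agent.H932.Mt.rep 1) *
            ((vG 5 ^ i.1 * Cfsg.Agent.H932.Mt.rep 1)⁻¹ * g))) := by rw [mul_inv_cancel_left, mul_assoc]
        _ = _ := by rw [← mul_assoc neg (vG 5 ^ i.1 * Cfsg.Agent.H932.Mt.rep 1), hc, mul_assoc, ]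

/-! ### representations of the stabilizer -/

theorem five_trivial (hζ : IsPrimitiveRoot ζ 11) {R : H0 →* End k V} (hn : finrank k V < 5) :
    op v0 R [5] = 1 := by
  obtain ⟨m, a, b, ha, hb, hm, hdim⟩ := sat_0.toL.eigen (R := R) hζ ⊤ (fun _ _ => trivial) (fun _ _ => trivial)
  rw [finrank_top] at hdim
  have h4 : (⊤ : Submodule k V) ≤ End.eigenspace (op v0 R [5]) 1 := le_of_finrank (by
    rw [hm, finrank_top, hdim]; omega)
  ext u
  have h5 := h4 (Submodule.mem_top (x := u))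
  rw [End.mem_eigenspace_iff, one_smul] at h5
  exact h5

theorem trivial_of_op {R : H0 →* End k V} (h : op v0 R [5] = 1) (g : H0) : R g = 1 := by
  refine trivial_of_five R ?_ g
  rw [← h, op, ev_cons, ev_nil, mul_one]

/-- a fixed vector or a fixed functional -/
theorem fix_or (h3 : (3 : k) = 0) (hζ : IsPrimitiveRoot ζ 11) (hξ : IsPrimitiveRoot ξ 5) (R : H0 →* End k V)
    (hn : finrank k V = 8) :
    (∃ v : V, v ≠ 0 ∧ ∀ g, R g v = v) ∨ ∃ φ : V →ₗ[k] k, φ ≠ 0 ∧ ∀ g v, φ (R g v) = φ v := by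
  have : Nontrivial V := Module.nontrivial_of_finrank_pos (R := k) (by omega)
  obtain ⟨U, ⟨hU0, hU⟩, hmin⟩ := (wellFounded_lt (α := Submodule k V)).has_min
    {S : Submodule k V | S ≠ ⊥ ∧ ∀ g : H0, ∀ u ∈ S, R g u ∈ S} ⟨⊤, top_ne_bot, fun _ _ _ => trivial⟩
  -- the restriction
  let RU : H0 →* End k U :=
    { toFun := fun g => (R g).restrict (hU g)
      map_one' := by
        ext u
        change R 1 (u : V) = u
        rw [map_one]
        rfl
      map_mul' := by
        intro a b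
        ext u
        change R (a * b) (u : V) = R a (R b u)
        rw [map_mul]
        rfl }
  have hRU : ∀ g (u : U), ((RU g u : U) : V) = R g u := fun _ _ => rfl
  by_cases h5 : op v0 RU [5] = 1
  · left
    obtain ⟨u, hu, hu0⟩ := (Submodule.ne_bot_iff _).1 hU0
    refine ⟨u, hu0, fun g => ?_⟩
    rw [← hRU g ⟨u, hu⟩, trivial_of_op h5 g]
    rfl
  · right
    have hn5 : 5 ≤ finrank k U := by
      by_contra hc
      exact h5 (five_trivial hζ (by omega))
    have hn8 : finrank k U ≤ 8 := by rw [← hn]; exact Submodule.finrank_le U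
    have irr : _root_.Cfsg.Agent.H6.M11.Irr v0 RU := by
      intro S s5 s8
      have e5 : (_root_.Cfsg.Agent.H6.M11.ev v0 [5]) ^ (10 + 1) = 1 := sat_0.toL.ev_pow.1
      have e8 : (ev v0 [8]) ^ (1 + 1) = 1 := by
        have h1 : ev v0 [8, 8] = ev v0 [] := sat_0.base (by decide +kernel)
        rw [ev_nil] at h1
        rw [← h1]
        simp only [ev_cons, ev_nil, mul_one]
        simp only [pow_succ, pow_zero, one_mul]
      have h1 : stabS RU S = ⊤ := by
        rw [eq_top_iff, ← closure_0, Subgroup.closure_le]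
        rintro g (rfl | hg)
        · exact mem_stabS s5 e5
        · rw [Set.mem_singleton_iff.1 hg]
          exact mem_stabS s8 e8
      by_cases hS : S = ⊥
      · exact Or.inl hS
      · right
        have h2 := hmin (S.map U.subtype) ⟨?_, ?_⟩
        · have h3' : S.map U.subtype ≤ U := Submodule.map_subtype_le U S
          have h4 : S.map U.subtype = U := by
            by_contra hne
            exact h2 (lt_of_le_of_ne h3' hne)
          apply Submodule.map_injective_of_injective (f := U.subtype) U.injective_subtype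
          rw [h4, Submodule.map_subtype_top]
        · intro h0
          apply hS
          apply Submodule.map_injective_of_injective (f := U.subtype) U.injective_subtype
          rw [h0, Submodule.map_bot]
        · rintro g _ ⟨u, hu, rfl⟩
          have hg : g ∈ stabS RU S := by rw [h1]; trivial
          exact ⟨RU g u, hg.1 u hu, rfl⟩
    have hdim := sat_0.dim_three (R := RU) h3 hζ hξ irr h5 (by omega) (by omega)
    have hU5 : finrank k U = 5 := by omega
    -- the quotient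
    let RQ : H0 →* End k (V ⧸ U) :=
      { toFun := fun g => U.mapQ U (R g) (fun u hu => hU g u hu)
        map_one' := by
          ext u
          change Submodule.Quotient.mk (R 1 u) = Submodule.Quotient.mk u
          rw [map_one]
          rfl
        map_mul' := by
          intro a b
          ext u
          change Submodule.Quotient.mk (R (a * b) u) = Submodule.Quotient.mk (R a (R b u))
          rw [map_mul]
          rfl }
    have hq : finrank k (V ⧸ U) < 5 := by
      have h1 := Submodule.finrank_quotient_add_finrank U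
      omega
    have htr := fun g => trivial_of_op (five_trivial hζ (R := RQ) hq) g
    have hlt : U < ⊤ := by
      rw [lt_top_iff_ne_top]
      intro h
      rw [h, finrank_top] at hU5
      omega
    obtain ⟨φ, hφ0, hφ⟩ := Submodule.exists_le_ker_of_lt_top U hlt
    refine ⟨φ, hφ0, fun g u => ?_⟩
    have h1 : (Submodule.Quotient.mk (R g u) : V ⧸ U) = Submodule.Quotient.mk u := by
      change RQ g (Submodule.Quotient.mk u) = _
      rw [htr g]
      rfl
    rw [Submodule.Quotient.eq] at h1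
    have h2 := hφ h1
    rw [LinearMap.mem_ker, map_sub, sub_eq_zero] at h2
    exact h2

/-- **degree at least 5 and not 8** -/
theorem dim_ne_eight (h3 : (3 : k) = 0) (hζ : IsPrimitiveRoot ζ 11) (hξ : IsPrimitiveRoot ξ 5) {R : Γ →* End k V}
    (hneg : R neg = -1) (irr : ∀ S : Submodule k V, (∀ g, ∀ u ∈ S, R g u ∈ S) → S = ⊥ ∨ S = ⊤)
    (hX : op vG R [5] ≠ 1) : 5 ≤ finrank k V ∧ finrank k V ≠ 8 := by
  have hX11 : (op vG R [5]) ^ 11 = 1 := sat_G.toL.pow_eleven
  have h11k := eleven_ne_of3 h3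
  obtain ⟨m, a, b, ha, hb, hm, hdim⟩ := sat_G.toL.eigen (R := R) hζ ⊤ (fun _ _ => trivial) (fun _ _ => trivial)
  rw [finrank_top] at hdim
  have hab : 0 < a + b := by
    by_contra hcon
    apply hX
    have h4 : (⊤ : Submodule k V) ≤ End.eigenspace (op vG R [5]) 1 := le_of_finrank (by
      rw [hm, finrank_top, hdim]; omega)
    ext u
    have h5 := h4 (Submodule.mem_top (x := u))
    rw [End.mem_eigenspace_iff, one_smul] at h5
    exact h5
  refine ⟨by omega, fun h8 => ?_⟩
  have hm3 : m = 3 := by omega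
  have hop : op vG R [5] = R (vG 5) := by rw [op, ev_cons, ev_nil, mul_one]
  have hpow : ∀ i : ℕ, R (vG 5 ^ i) = (op vG R [5]) ^ i := fun i => by rw [map_pow, hop]
  rcases fix_or h3 hζ hξ (R.comp H0.subtype) h8 with ⟨v, hv0, hv⟩ | ⟨φ, hφ0, hφ⟩
  · -- a fixed vector
    have hfix : ∀ g ∈ H0, R g v = v := fun g hg => hv ⟨g, hg⟩
    have h5v : op vG R [5] v = v := by rw [hop]; exact hfix _ (vG_mem 5)
    have hall : ∀ g : Γ, R g v ∈ spanO (op vG R [5]) v (R (Cfsg.Agent.H932.Mt.rep 1) v) := by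
      intro g
      rcases coset g with (h | h) | ⟨i, h, hh, he | he⟩
      · rw [hfix g h]; exact x0_mem
      · have h1 := hfix _ h
        rw [map_mul, hneg, neg_mul, one_mul, LinearMap.neg_apply, neg_eq_iff_eq_neg] at h1
        rw [h1]
        exact Submodule.neg_mem _ x0_mem
      · rw [he, map_mul, map_mul, Module.End.mul_apply, Module.End.mul_apply, hfix h hh, hpow]
        exact u_mem i
      · rw [he, map_mul, map_mul, map_mul, hneg, neg_mul, one_mul, LinearMap.neg_apply, Module.End.mul_apply,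
          Module.End.mul_apply, hfix h hh, hpow]
        exact Submodule.neg_mem _ (u_mem i)
    have hspan : Submodule.span k (Set.range fun g : Γ => R g v) = ⊤ := by
      refine (irr _ ?_).resolve_left ?_
      · intro g u hu
        induction hu using Submodule.span_induction with
        | mem u hu =>
          obtain ⟨g', rfl⟩ := hu
          refine Submodule.subset_span ⟨g * g', ?_⟩
          change R (g * g') v = R g (R g' v)
          rw [map_mul]
          rfl
        | zero => rw [map_zero]; exact Submodule.zero_mem _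
        | add x y _ _ hx hy => rw [map_add]; exact Submodule.add_mem _ hx hy
        | smul c x _ hx => rw [map_smul]; exact Submodule.smul_mem _ _ hx
      · intro h
        apply hv0
        have h1 : v ∈ Submodule.span k (Set.range fun g : Γ => R g v) :=
          Submodule.subset_span ⟨1, by change R 1 v = v; rw [map_one]; rfl⟩
        rwa [h, Submodule.mem_bot] at h1
    have htop : spanO (op vG R [5]) v (R (Cfsg.Agent.H932.Mt.rep 1) v) = ⊤ := by
      rw [eq_top_iff, ← hspan, Submodule.span_le]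
      rintro _ ⟨g, rfl⟩
      exact hall g
    have h1 := finrank_fix_le (u := R (Cfsg.Agent.H932.Mt.rep 1) v) h11k hX11 h5v
    rw [htop, hm] at h1
    omega
  · -- a fixed functional
    have hfix : ∀ g ∈ H0, ∀ u, φ (R g u) = φ u := fun g hg u => hφ ⟨g, hg⟩ u
    let N : Submodule k V :=
      { carrier := {u | ∀ g : Γ, φ (R g u) = 0}
        zero_mem' := fun g => by rw [map_zero, map_zero]
        add_mem' := by
          intro x y hx hy g
          rw [map_add, map_add, hx g, hy g, add_zero]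
        smul_mem' := by
          intro c x hx g
          rw [map_smul, map_smul, hx g, smul_zero] }
    have hN : N = ⊥ := by
      refine (irr N ?_).resolve_right ?_
      · intro g u hu g'
        have h1 := hu (g' * g)
        rwa [map_mul] at h1
      · intro h
        apply hφ0
        ext u
        have h1 : u ∈ N := by rw [h]; trivial
        have h2 := h1 1
        rw [map_one] at h2
        exact h2
    let f : V →ₗ[k] k × k := φ.prod (φ.comp (R (Cfsg.Agent.H932.Mt.rep 1)⁻¹))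
    have hinj : ∀ u ∈ (⊤ ⊓ End.eigenspace (op vG R [5]) 1 : Submodule k V), f u = 0 → u = 0 := by
      intro u hu hf
      obtain ⟨-, hu1⟩ := Submodule.mem_inf.1 hu
      rw [End.mem_eigenspace_iff, one_smul] at hu1
      have f1 : φ u = 0 := congrArg Prod.fst hf
      have f2 : φ (R (Cfsg.Agent.H932.Mt.rep 1)⁻¹ u) = 0 := congrArg Prod.snd hf
      have hXi : ∀ i : ℕ, R (vG 5 ^ i)⁻¹ u = u := by
        intro i
        have h1 : R (vG 5 ^ i) u = u := by rw [hpow]; exact pow_fix hu1 i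
        calc R (vG 5 ^ i)⁻¹ u = R (vG 5 ^ i)⁻¹ (R (vG 5 ^ i) u) := by rw [h1]
          _ = R ((vG 5 ^ i)⁻¹ * vG 5 ^ i) u := by rw [map_mul]; rfl
          _ = u := by rw [inv_mul_cancel, map_one]; rfl
      have hmem : u ∈ N := by
        intro g
        have hnn : neg⁻¹ = neg := inv_eq_of_mul_eq_one_left neg_mul_neg'
        rcases coset g⁻¹ with (h | h) | ⟨i, h, hh, he | he⟩
        · rw [hfix g (by simpa using H0.inv_mem h)]; exact f1
        · have h1 := H0.inv_mem h
          rw [mul_inv_rev, inv_inv, hnn, ← neg_comm] at h1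
          have h2 := hfix _ h1 u
          rw [map_mul, hneg, neg_mul, one_mul, LinearMap.neg_apply, map_neg, f1, neg_eq_zero] at h2
          exact h2
        · have h1 : g = h⁻¹ * ((Cfsg.Agent.H932.Mt.rep 1)⁻¹ * (vG 5 ^ i)⁻¹) := by
            rw [← inv_inv g, he, mul_inv_rev, mul_inv_rev]
          rw [h1, map_mul, Module.End.mul_apply, hfix _ (H0.inv_mem hh), map_mul, Module.End.mul_apply, hXi]
          exact f2
        · have h1 : g = neg * (h⁻¹ * ((Cfsg.Agent.H932.Mt.rep 1)⁻¹ * (vG 5 ^ i)⁻¹)) := by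
            rw [← inv_inv g, he, mul_inv_rev, hnn, ← neg_comm, mul_inv_rev, mul_inv_rev]
          rw [h1, map_mul, hneg, neg_mul, one_mul, LinearMap.neg_apply, map_neg, map_mul, Module.End.mul_apply,
            hfix _ (H0.inv_mem hh), map_mul, Module.End.mul_apply, hXi, f2, neg_zero]
      rwa [hN, Submodule.mem_bot] at hmem
    have h1 : finrank k (⊤ ⊓ End.eigenspace (op vG R [5]) 1 : Submodule k V) ≤ finrank k (k × k) := by
      refine LinearMap.finrank_le_finrank_of_injective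
        (f := f.domRestrict (⊤ ⊓ End.eigenspace (op vG R [5]) 1 : Submodule k V)) ?_
      rw [← LinearMap.ker_eq_bot, LinearMap.ker_eq_bot']
      intro u hu
      apply Subtype.ext
      exact hinj u u.2 hu
    rw [hm, Module.finrank_prod, Module.finrank_self] at h1
    omega

end Cfsg.Agent.H24.M12
end

-- part: H24/M12/Frob
section
/-!
# Class functions on `2.M₁₂` and Frobenius (helper24)
-/

set_option autoImplicit false
set_option maxRecDepth 100000

namespace Cfsg.Agent.H24.M12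

open Cfsg Cfsg.Agent.H932.Mt

variable {F : Type*} [Field F] {χ : Γ → F} {p : ℕ}

theorem po_pos : ∀ k : Fin 15, 0 < po k.1 := by decide

theorem po_le : ∀ k : Fin 15, po k.1 ≤ 20 := by decide

theorem rat_inv : ∀ k : Fin 15, rat k.1 = true → pc k.1 (po k.1 - 1) = true := by decide +kernel

theorem not_rat : ∀ k : Fin 15, ¬ rat k.1 = true → k.1 = 9 ∨ k.1 = 10 ∨ k.1 = 11 ∨ k.1 = 12 ∨ k.1 = 14 := by
  decide +kernel

/-- the two possibilities for the `p`-th power of a representative -/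
theorem rep_pow (hc : ∀ a b, IsConj a b → χ a = χ b) (hp : p.Prime)
    (hpow : ∀ a, χ (a ^ p) = χ a ^ p)
    (hn : ∀ a, χ (neg * a) = -χ a)
    (h11 : p = 3 ∨ ∀ k, (k = 11 ∨ k = 12) → χ (rp k)⁻¹ = χ (rp k))
    (h20 : p = 3 ∨ p = 5 ∨ χ (rp 14) = 0)
    (k : Fin 15) (hk : ¬ p ∣ po k.1) :
    (p % 8 = 1 ∨ p % 8 = 3 → χ (rp k.1) ^ p = χ (rp k.1)) ∧
      (p % 8 = 5 ∨ p % 8 = 7 → χ (rp k.1) ^ p = χ (rp k.1)⁻¹) := by
  have hpos : 0 < po k.1 := po_pos k
  have hle : po k.1 ≤ 20 := po_le k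
  have hm : p % po k.1 < po k.1 := Nat.mod_lt _ hpos
  have hg : Nat.gcd (p % po k.1) (po k.1) = 1 := by
    rw [← Nat.gcd_rec, Nat.gcd_comm]
    exact (Nat.Prime.coprime_iff_not_dvd hp).2 hk
  obtain ⟨t1, t2, t3, t4⟩ := pc_table k ⟨p % po k.1, by omega⟩ hm hg
  dsimp only at t1 t2 t3 t4
  have hred : rp k.1 ^ p = rp k.1 ^ (p % po k.1) := by
    rw [← order_rp k, pow_mod_orderOf]
  have hinv : ∀ m, m ≤ po k.1 → rp k.1 ^ (po k.1 - m) = (rp k.1 ^ m)⁻¹ := by
    intro m hm
    rw [eq_inv_iff_mul_eq_one, ← pow_add, Nat.sub_add_cancel hm, ← order_rp k, pow_orderOf_eq_one]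
  have c1 : pc k.1 (p % po k.1) = true → χ (rp k.1) ^ p = χ (rp k.1) := by
    intro h
    rw [← hpow, hred]
    exact (hc _ _ (pc_spec h)).symm
  have c2 : pc k.1 (po k.1 - p % po k.1) = true → χ (rp k.1) ^ p = χ (rp k.1)⁻¹ := by
    intro h
    have h1 := pc_spec h
    rw [hinv _ hm.le] at h1
    have h2 : IsConj (rp k.1)⁻¹ (rp k.1 ^ (p % po k.1)) := by
      obtain ⟨c, hc'⟩ := isConj_iff.1 h1
      refine isConj_iff.2 ⟨c, ?_⟩
      rw [← inv_inj, ← hc']
      group
    rw [← hpow, hred]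
    exact (hc _ _ h2).symm
  by_cases hrat : rat k.1 = true
  · have h1 := c1 (t1 hrat)
    refine ⟨fun _ => h1, fun _ => ?_⟩
    rw [h1]
    -- the representative is conjugate to its inverse
    have h2 : pc k.1 (po k.1 - 1) = true := rat_inv k hrat
    have h3 := pc_spec h2
    rw [hinv 1 (by omega), pow_one] at h3
    exact hc _ _ h3
  · have hk5 : k.1 = 9 ∨ k.1 = 10 ∨ k.1 = 11 ∨ k.1 = 12 ∨ k.1 = 14 := not_rat k hrat
    by_cases h8 : k.1 = 9 ∨ k.1 = 10
    · have ho : po k.1 = 8 := by rcases h8 with h | h <;> rw [h] <;> rfl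
      obtain ⟨t5, t6⟩ := t2 h8
      constructor
      · intro h
        exact c1 (t5 (by rw [ho]; exact h))
      · intro h
        exact c2 (by rw [ho]; rw [ho] at t6; exact t6 h)
    · have hk3 : k.1 = 11 ∨ k.1 = 12 ∨ k.1 = 14 := by omega
      by_cases hp3 : p = 3
      · subst hp3
        have h1 := c1 (t4 hk3 (by rcases hk3 with h | h | h <;> rw [h] <;> rfl))
        exact ⟨fun _ => h1, fun h => absurd h (by norm_num)⟩
      · -- here the value is real
        have hreal : χ (rp k.1)⁻¹ = χ (rp k.1) := by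
          rcases h11 with h | h
          · exact absurd h hp3
          · by_cases h14 : k.1 = 14
            · rw [h14]
              rcases h20 with h' | h' | h'
              · exact absurd h' hp3
              · exfalso
                apply hk
                rw [h14, h']
                decide
              · rw [h']
                have h3 : pc 14 9 = true := by decide +kernel
                -- `rp 14 ^ 10 = -1`
                have h4 : rp 14 ^ 10 = neg := by
                  have h5 : eqw (rpt 10 (RW 14)) nw = true := by decide +kernel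
                  have h6 := el_eq h5
                  rw [el_rpt, el_nw] at h6
                  exact h6
                have h7 : (rp 14)⁻¹ = neg * rp 14 ^ 9 := by
                  have h8 : neg⁻¹ = neg := inv_eq_of_mul_eq_one_left neg_mul_neg'
                  rw [inv_eq_iff_mul_eq_one, ← mul_assoc, ← neg_comm, mul_assoc, ← pow_succ', h4, neg_mul_neg']
                rw [h7, hn, ← hc _ _ (pc_spec h3), h', neg_zero]
            · exact h k.1 (by omega)
        rw [hreal]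
        rw [hreal] at c2
        have h1 : χ (rp k.1) ^ p = χ (rp k.1) := by
          rcases t3 hk3 with h | h
          · exact c1 h
          · exact c2 h
        exact ⟨fun _ => h1, fun _ => h1⟩

/-- **Frobenius on class functions** -/
theorem frob (hc : ∀ a b, IsConj a b → χ a = χ b) (hp : p.Prime) (hp2 : p ≠ 2)
    (hpow : ∀ a, χ (a ^ p) = χ a ^ p)
    (hn : ∀ a, χ (neg * a) = -χ a)
    (h11 : p = 3 ∨ ∀ k, (k = 11 ∨ k = 12) → χ (rp k)⁻¹ = χ (rp k))
    (h20 : p = 3 ∨ p = 5 ∨ χ (rp 14) = 0) {g : Γ} (hg : ¬ p ∣ orderOf g) :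
    (p % 8 = 1 ∨ p % 8 = 3 → χ g ^ p = χ g) ∧ (p % 8 = 5 ∨ p % 8 = 7 → χ g ^ p = χ g⁻¹) := by
  have hodd : Odd p := hp.odd_of_ne_two hp2
  obtain ⟨k, hk⟩ := classes g
  -- the order
  have hconj2 : IsConj (g ^ 2) (rp k.1 ^ 2) := by
    rcases hk with hk | hk
    · exact hk.pow 2
    · have h1 := hk.pow 2
      have h2 : (neg * rp k.1) ^ 2 = rp k.1 ^ 2 := by
        rw [(show Commute neg (rp k.1) from neg_comm _).mul_pow, pow_two neg, neg_mul_neg', one_mul]
      rwa [h2] at h1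
  have hord : ¬ p ∣ po k.1 := by
    intro h
    apply hg
    have h1 : orderOf (g ^ 2) = orderOf (rp k.1 ^ 2) := by
      obtain ⟨c, hc'⟩ := isConj_iff.1 hconj2
      rw [← hc', ← MulAut.conj_apply]
      exact (MulEquiv.orderOf_eq (MulAut.conj c) (g ^ 2)).symm
    have h2 : p ∣ orderOf (rp k.1 ^ 2) := by
      have h3 : orderOf (rp k.1) ∣ 2 * orderOf (rp k.1 ^ 2) := by
        apply orderOf_dvd_of_pow_eq_one
        rw [pow_mul, pow_orderOf_eq_one]
      rw [order_rp] at h3
      rcases (Nat.Prime.dvd_mul hp).1 (h.trans h3) with h4 | h4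
      · exact absurd ((Nat.prime_dvd_prime_iff_eq hp Nat.prime_two).1 h4) hp2
      · exact h4
    rw [← h1] at h2
    exact h2.trans (orderOf_pow_dvd 2)
  obtain ⟨r1, r2⟩ := rep_pow hc hp hpow hn h11 h20 k hord
  have hinvc : ∀ {a b : Γ}, IsConj a b → IsConj a⁻¹ b⁻¹ := by
    intro a b h
    obtain ⟨c, hc'⟩ := isConj_iff.1 h
    refine isConj_iff.2 ⟨c, ?_⟩
    rw [← hc']
    group
  rcases hk with hk | hk
  · rw [hc _ _ hk, hc _ _ (hinvc hk)]
    exact ⟨r1, r2⟩
  · rw [hc _ _ hk, hc _ _ (hinvc hk)]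
    have h8 : neg⁻¹ = neg := inv_eq_of_mul_eq_one_left neg_mul_neg'
    have h9 : (neg * rp k.1)⁻¹ = neg * (rp k.1)⁻¹ := by
      rw [mul_inv_rev, h8, neg_comm]
    rw [h9, hn, hn, hodd.neg_pow]
    exact ⟨fun h => by rw [r1 h], fun h => by rw [r2 h]⟩

end Cfsg.Agent.H24.M12
end

-- part: H24/M12/Main
section
/-!
# The double cover of `M₁₂` in degree at most 11 (helper24)
-/

set_option autoImplicit false
set_option linter.unusedSectionVars false
set_option maxRecDepth 100000

namespace Cfsg.Agent.H24.M12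

open Cfsg Cfsg.Geo Matrix Module Cfsg.Agent.H6.M11 Cfsg.Agent.H932.Mt Cfsg.Agent.H915.LD

universe u

variable {ι : Type} [Fintype ι] [DecidableEq ι] {F : Type u} [Field F] {P : Subgroup (GL ι F)}

/-- the words conjugating the order 11 and order 20 elements to the representatives -/
def W11c : List ℕ := [3, 0, 0, 3, 0, 3, 0, 0, 0, 3, 0, 0, 0]
def W20c : List ℕ := [2, 2, 2, 3, 2, 2, 2, 3, 2, 3, 2, 3, 2]

theorem conj_eleven : IsConj (vG 5) (rp 11) := by
  have h : eqw (W11c ++ LW 5) (RW 11 ++ W11c) = true := by decide +kernel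
  have h1 := el_eq h
  rw [el_append, el_append] at h1
  refine isConj_iff.2 ⟨el W11c, ?_⟩
  change el W11c * el (LW 5) * (el W11c)⁻¹ = el (RW 11)
  rw [h1, mul_inv_cancel_right]

theorem conj_twenty : IsConj (el W20) (rp 14) := by
  have h : eqw (W20c ++ W20) (RW 14 ++ W20c) = true := by decide +kernel
  have h1 := el_eq h
  rw [el_append, el_append] at h1
  refine isConj_iff.2 ⟨el W20c, ?_⟩
  change el W20c * el W20 * (el W20c)⁻¹ = el (RW 14)
  rw [h1, mul_inv_cancel_right]

theorem rp_twelve : rp 12 = (rp 11)⁻¹ := by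
  have h : eqw (RW 12 ++ RW 11) [] = true := by decide +kernel
  have h1 := el_eq h
  rw [el_append, el_nil] at h1
  exact eq_inv_of_mul_eq_one_left h1

section

variable (hC : Core P) (e : Soc P ≃* Spor.M12) {φ : Γ →* P} (hφ : Function.Surjective φ)
  (hφe : ∀ x, e (toSoc P (φ x)) = sig x)

include e hφ hφe

theorem neg_mem : φ _root_.Cfsg.Agent.H932.Mt.neg ∈ (scalars ι F).subgroupOf P := by
  rw [← ker_toSoc, MonoidHom.mem_ker, ← map_eq_one_iff e e.injective, hφe, sig_neg]

theorem phi_neg_ne (hZ : (scalars ι F).subgroupOf P ≠ ⊥) : φ _root_.Cfsg.Agent.H932.Mt.neg ≠ 1 := by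
  intro h
  apply hZ
  rw [Subgroup.eq_bot_iff_forall]
  intro z hz
  obtain ⟨x, rfl⟩ := hφ z
  rw [← ker_toSoc, MonoidHom.mem_ker, ← map_eq_one_iff e e.injective, hφe] at hz
  rcases eq_of_sig hz with h1 | h1
  · rw [h1, map_one]
  · rw [h1, h]

theorem phi_injective (hZ : (scalars ι F).subgroupOf P ≠ ⊥) : Function.Injective φ := by
  rw [injective_iff_map_eq_one]
  intro x hx
  have h1 : sig x = 1 := by rw [← hφe, hx, map_one, map_one]
  rcases eq_of_sig h1 with h2 | h2
  · exact h2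
  · exfalso
    apply phi_neg_ne e hφ hφe hZ
    rw [← h2, hx]

theorem phi_neg (hZ : (scalars ι F).subgroupOf P ≠ ⊥) :
    ((φ _root_.Cfsg.Agent.H932.Mt.neg : GL ι F) : Matrix ι ι F) = (-1 : F) • (1 : Matrix ι ι F) := by
  have h1 := neg_mem e hφ hφe
  rw [Subgroup.mem_subgroupOf, mem_scalars_iff] at h1
  obtain ⟨c, hc⟩ := h1
  have h2 : φ _root_.Cfsg.Agent.H932.Mt.neg * φ _root_.Cfsg.Agent.H932.Mt.neg = 1 := by rw [← map_mul, neg_mul_neg', map_one]
  have h3 : ((φ _root_.Cfsg.Agent.H932.Mt.neg : GL ι F) : Matrix ι ι F) * ((φ _root_.Cfsg.Agent.H932.Mt.neg : GL ι F) : Matrix ι ι F) = 1 := by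
    rw [← Units.val_mul, ← Subgroup.coe_mul, h2]
    rfl
  have hne : Nonempty ι := by
    by_contra hc'
    rw [not_nonempty_iff] at hc'
    apply phi_neg_ne e hφ hφe hZ
    apply Subtype.ext
    apply Units.ext
    ext i
    exact isEmptyElim i
  obtain ⟨i⟩ := hne
  have h4 : (c : F) * c = 1 := by
    rw [hc, Matrix.smul_mul, Matrix.mul_smul, smul_smul, mul_one] at h3
    have h5 := congrFun (congrFun h3 i) i
    simpa only [_root_.Matrix.smul_apply, _root_.Matrix.one_apply_eq, _root_.smul_eq_mul, _root_.mul_one] using h5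
  have h5 : (c : F) = 1 ∨ (c : F) = -1 := mul_self_eq_one_iff.1 h4
  rcases h5 with h5 | h5
  · exfalso
    apply phi_neg_ne e hφ hφe hZ
    apply Subtype.ext
    apply Units.ext
    rw [hc, h5, one_smul]
    rfl
  · rw [hc, h5]

end

/-- **The double cover of `M₁₂` in degree at most 11.** -/
theorem two_m12 [Finite F] {p : ℕ} [hp : Fact p.Prime] [CharP F p] (hC : Core P) (h : Spor.IsoM12 (Soc P)) (hp2 : p ≠ 2)
    (hZ : (scalars ι F).subgroupOf P ≠ ⊥) (hn : Fintype.card ι ≤ 11) :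
    (p = 3 ∧ (Fintype.card ι = 6 ∨ Fintype.card ι = 10) ∧ Fr P 3) ∨
      (p ≠ 3 ∧ Fintype.card ι = 10 ∧ (((p % 8 = 1 ∨ p % 8 = 3) ∧ Fr P p) ∨ ((p % 8 = 5 ∨ p % 8 = 7) ∧ Cj P p))) := by
  obtain ⟨e⟩ := h
  obtain ⟨φ, hφ, hφe⟩ := exists_cover hC e
  have hinj := phi_injective e hφ hφe hZ
  have hneg := phi_neg e hφ hφe hZ
  have h2F : (2 : F) ≠ 0 := by
    intro h0
    have h1 : ((2 : ℕ) : F) = 0 := by exact_mod_cast h0
    rw [CharP.cast_eq_zero_iff F p] at h1
    exact hp2 ((Nat.prime_dvd_prime_iff_eq hp.out Nat.prime_two).1 h1)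
  -- the degree is even
  have heven : Even (Fintype.card ι) := by
    have h1 := hC.scalar_pow (φ _root_.Cfsg.Agent.H932.Mt.neg).2 hneg
    by_contra hodd
    rw [Nat.not_even_iff_odd] at hodd
    rw [hodd.neg_one_pow] at h1
    apply h2F
    linear_combination -h1
  -- the class function
  let χ : Γ → F := fun g => tr ((φ g : P) : GL ι F)
  have hχc : ∀ a b, IsConj a b → χ a = χ b := fun a b hab => Cfsg.Agent.H6.M11.tr_isConj (MonoidHom.map_isConj φ hab)
  have hχn : ∀ a, χ (Cfsg.Agent.H932.Mt.neg * a) = -χ a := by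
    intro a
    have h1 : (((φ (Cfsg.Agent.H932.Mt.neg * a) : P) : GL ι F) : Matrix ι ι F) = (-1 : F) • (((φ a : P) : GL ι F) : Matrix ι ι F) := by
      rw [map_mul, Subgroup.coe_mul, Units.val_mul, hneg, Matrix.smul_mul, one_mul]
    have h2 := tr_smul h1
    change tr _ = -tr _
    rw [h2, neg_mul, one_mul]
  have hχp : ∀ a, χ (a ^ p) = χ a ^ p := by
    intro a
    have h1 := tr_pow_char p ((φ a : P) : GL ι F) 1
    rw [pow_one] at h1
    change tr _ = tr _ ^ p
    rw [← h1, map_pow]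
    rfl
  -- the letters
  have hv : Sat (fun i => φ (vG i)) := sat_G.map φ
  have hv0 : φ (vG 0) ≠ 1 := by
    intro h0
    exact vG_zero_ne (hinj (by rw [h0, map_one]))
  have hord : ∀ γ : Γ, orderOf ((φ γ : P) : GL ι F) = orderOf γ := by
    intro γ
    rw [Subgroup.orderOf_coe, orderOf_injective φ hinj]
  -- the representation over the algebraic closure
  let K := AlgebraicClosure F
  have hck : CharP K p := charP_of_injective_algebraMap (algebraMap F _).injective p
  let R : Γ →* Module.End K (ι → K) := (_root_.Cfsg.Agent.H6.M11.rep P K).comp φ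
  have hRneg : R _root_.Cfsg.Agent.H932.Mt.neg = -1 := by
    change rep P K (φ _root_.Cfsg.Agent.H932.Mt.neg) = -1
    rw [Cfsg.Agent.H6.M11.rep_apply, hneg]
    have h1 : ((-1 : F) • (1 : Matrix ι ι F)).map (algebraMap F K) = -1 := by
      rw [neg_smul, one_smul, Matrix.map_neg _ (map_neg _), Matrix.map_one _ (map_zero _) (map_one _)]
    rw [h1, map_neg, Matrix.toLin'_one]
    rfl
  have hRop : ∀ i, op vG R [i] = rep P K (φ (vG i)) := by
    intro i
    rw [op, ev_cons, ev_nil, mul_one]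
    rfl
  have hdim : finrank K (ι → K) = Fintype.card ι := Module.finrank_fintype_fun_eq_card K
  have hfr : ∀ (h11 : p = 3 ∨ ∀ k, (k = 11 ∨ k = 12) → χ (rp k)⁻¹ = χ (rp k))
      (h20 : p = 3 ∨ p = 5 ∨ χ (rp 14) = 0),
      ((p % 8 = 1 ∨ p % 8 = 3) → Fr P p) ∧ ((p % 8 = 5 ∨ p % 8 = 7) → Cj P p) := by
    intro h11 h20
    constructor
    · intro h8
      refine Fr.of_reg' p fun g hg hreg => ?_
      obtain ⟨γ, hγ⟩ := hφ ⟨g, hg⟩
      have hγ' : ((φ γ : P) : GL ι F) = g := by rw [hγ]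
      have h1 := (frob (χ := χ) hχc hp.out hp2 hχp hχn h11 h20 (g := γ) (by rwa [← hord, hγ'])).1 h8
      change tr _ ^ p = tr _ at h1
      rwa [hγ'] at h1
    · intro h8
      refine Cj.of_reg' p fun g hg hreg => ?_
      obtain ⟨γ, hγ⟩ := hφ ⟨g, hg⟩
      have hγ' : ((φ γ : P) : GL ι F) = g := by rw [hγ]
      have h1 := (frob (χ := χ) hχc hp.out hp2 hχp hχn h11 h20 (g := γ) (by rwa [← hord, hγ'])).2 h8
      change tr ((φ γ : P) : GL ι F) ^ p = tr ((φ γ⁻¹ : P) : GL ι F) at h1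
      rw [map_inv, Subgroup.coe_inv, hγ'] at h1
      exact h1
  by_cases hp3 : p = 3
  · left
    refine ⟨hp3, ?_, ?_⟩
    · -- the degree
      subst hp3
      obtain ⟨ξ, hξ⟩ := exists_root K 5 (cast_ne _ Nat.prime_three Nat.prime_five (by norm_num))
      obtain ⟨ζ, hζ⟩ := exists_root K 11 (cast_ne _ Nat.prime_three (by norm_num) (by norm_num))
      have h3 : (3 : K) = 0 := by
        have := CharP.cast_eq_zero K 3
        exact_mod_cast this
      obtain ⟨d1, d2⟩ := dim_ne_eight (R := R) h3 hζ hξ hRneg (by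
        intro S hS
        refine invariant K hC S fun g x hx => ?_
        obtain ⟨γ, rfl⟩ := hφ g
        exact hS γ x hx) (by
        intro h5
        rw [hRop] at h5
        have h6 := rep_eq_one K h5
        have h7 : vG 5 = 1 := hinj (by rw [h6, map_one])
        have h8 := el_val (LW 5) 2
        change ((vG 5).1.1 2).val = _ at h8
        rw [h7] at h8
        revert h8
        decide +kernel)
      rw [hdim] at d1 d2
      obtain ⟨m, hm⟩ := heven
      omega
    · have h1 := (hfr (Or.inl hp3) (Or.inl hp3)).1 (Or.inr (by rw [hp3]))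
      rwa [hp3] at h1
  · right
    have h9 := nine_le_of (P := P) p hp3 hp2 hv hv0 (by omega)
    have h10 : Fintype.card ι = 10 := by
      obtain ⟨m, hm⟩ := heven
      omega
    have h11 : ∀ k, (k = 11 ∨ k = 12) → χ (rp k)⁻¹ = χ (rp k) := by
      have h1 := real_eleven (P := P) p hp3 hv hv0 (by omega)
      rw [ev_cons, ev_nil, mul_one] at h1
      have h2 : χ (rp 11)⁻¹ = χ (rp 11) := by
        have hi : IsConj (vG 5)⁻¹ (rp 11)⁻¹ := by
          obtain ⟨c, hc'⟩ := isConj_iff.1 conj_eleven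
          refine isConj_iff.2 ⟨c, ?_⟩
          rw [← hc']
          group
        rw [← hχc _ _ conj_eleven, ← hχc _ _ hi]
        change tr ((φ (vG 5)⁻¹ : P) : GL ι F) = tr ((φ (vG 5) : P) : GL ι F)
        rw [map_inv]
        exact h1
      rintro k (rfl | rfl)
      · exact h2
      · rw [rp_twelve, inv_inv]
        exact h2.symm
    have h20 : χ (rp 14) = 0 := by
      obtain ⟨ω, hω⟩ := exists_root K 3 (cast_ne _ hp.out Nat.prime_three hp3)
      have h2 : (2 : K) ≠ 0 := cast_ne _ hp.out Nat.prime_two hp2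
      obtain ⟨i, hi⟩ := IsAlgClosed.exists_pow_nat_eq (-1 : K) (n := 2) (by norm_num)
      have h3 := tr_twenty (R := R) hω h2 (i := i) (by rw [← hi]; ring) hRneg (by
        intro h5
        rw [hRop] at h5
        exact hv0 (rep_eq_one K h5)) (by rw [hdim, h10])
      have h4 : LinearMap.trace K _ (_root_.Cfsg.Agent.H6.M11.rep P K (φ (el W20))) = 0 := h3
      rw [trace_rep] at h4
      rw [← hχc _ _ conj_twenty]
      exact (algebraMap F K).injective (by rw [map_zero]; exact h4)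
    refine ⟨hp3, h10, ?_⟩
    obtain ⟨f1, f2⟩ := hfr (Or.inr h11) (Or.inr (Or.inr h20))
    have hodd : p % 2 = 1 := by
      rcases hp.out.eq_two_or_odd with h | h
      · exact absurd h hp2
      · exact h
    by_cases h8 : p % 8 = 1 ∨ p % 8 = 3
    · exact Or.inl ⟨h8, f1 h8⟩
    · have h8' : p % 8 = 5 ∨ p % 8 = 7 := by omega
      exact Or.inr ⟨h8', f2 h8'⟩

end Cfsg.Agent.H24.M12
end

private theorem dce_090991393e55 : _root_.True := by
  try have : _root_.True := by simp only [_root_.Cfsg.Agent.H24.M12.aw.eq_1]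
  try have : _root_.True := by simp only [_root_.Cfsg.Agent.H24.M12.aw.eq_2]
  try have : _root_.True := by simp only [_root_.Cfsg.Agent.H24.M12.aw.eq_def]
  exact _root_.True.intro
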